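import Mathlib.AlgebraicGeometry.Morphisms.Smooth
import Mathlib.AlgebraicGeometry.Morphisms.Etale
import Mathlib.RingTheory.Unramified.LocalStructure

/-! Local properties at a point via `appLE` into a fixed affine open of the base. -/

set_option autoImplicit false
universe u

open AlgebraicGeometry CategoryTheory Limits TopologicalSpace

namespace Groth.Agent.Lib.H75.NhdApp.Basic

variable {X S : Scheme.{u}} (f : X ⟶ S) {V : S.Opens} (hV : IsAffineOpen V)

include hV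

theorem ι_comp_iff (P : MorphismProperty Scheme.{u}) [P.IsStableUnderBaseChange] [P.IsStableUnderComposition]
    (hP : ∀ {A B : Scheme.{u}} (i : A ⟶ B) [IsOpenImmersion i], P i)
    {U : X.Opens} (hU : IsAffineOpen U) (e : U ≤ f ⁻¹ᵁ V) :
    P (U.ι ≫ f) ↔ P (Spec.map (f.appLE V U e)) := by
  have h : hU.fromSpec ≫ f = Spec.map (f.appLE V U e) ≫ hV.fromSpec :=
    (IsAffineOpen.SpecMap_appLE_fromSpec f hV hU e).symm
  have h1 : P (U.ι ≫ f) ↔ P (hU.fromSpec ≫ f) := by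
    rw [← IsAffineOpen.isoSpec_inv_ι, Category.assoc]
    exact (P.cancel_left_of_respectsIso hU.isoSpec.inv (U.ι ≫ f)).symm
  rw [h1]
  constructor
  · exact fun hp => MorphismProperty.of_isPullback
      (IsPullback.of_horiz_isIso_mono (fst := 𝟙 _) (g := hV.fromSpec) ⟨(Category.id_comp _).trans h⟩) hp
  · exact fun hp => h ▸ P.comp_mem _ _ hp (hP _)

theorem exists_affine_nhd (P : MorphismProperty Scheme.{u}) [P.IsStableUnderBaseChange] [P.IsStableUnderComposition]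
    (hP : ∀ {A B : Scheme.{u}} (i : A ⟶ B) [IsOpenImmersion i], P i)
    {x : X} (hxV : f x ∈ V) {W : X.Opens} (hxW : x ∈ W) (h : P (W.ι ≫ f)) :
    ∃ (U : X.Opens) (hU : IsAffineOpen U) (_ : x ∈ U) (e : U ≤ f ⁻¹ᵁ V), P (Spec.map (f.appLE V U e)) := by
  obtain ⟨_, ⟨U, hU, rfl⟩, hxU, hUle⟩ :=
    X.isBasis_affineOpens.exists_subset_of_mem_open (show x ∈ W ⊓ f ⁻¹ᵁ V from ⟨hxW, hxV⟩) (W ⊓ f ⁻¹ᵁ V).2
  have hle : U ≤ W ⊓ f ⁻¹ᵁ V := hUle
  refine ⟨U, hU, hxU, hle.trans inf_le_right, (ι_comp_iff f hV P hP hU _).1 ?_⟩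
  rw [← X.homOfLE_ι (hle.trans inf_le_left), Category.assoc]
  exact P.comp_mem _ _ (hP _) h

theorem smooth_nhd_iff {x : X} (hxV : f x ∈ V) :
    (∃ W : X.Opens, x ∈ W ∧ Smooth (W.ι ≫ f)) ↔
      ∃ (U : X.Opens) (_ : IsAffineOpen U) (_ : x ∈ U) (e : U ≤ f ⁻¹ᵁ V),
        (f.appLE V U e).hom.IsStandardSmooth := by
  have hP : ∀ {A B : Scheme.{u}} (i : A ⟶ B) [IsOpenImmersion i], Smooth i := fun i _ => inferInstance
  constructor
  · rintro ⟨W, hxW, hW⟩
    obtain ⟨U, hU, hxU, e, h⟩ := exists_affine_nhd f hV @Smooth hP hxV hxW hW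
    rw [HasRingHomProperty.Spec_iff (P := @Smooth), RingHom.smooth_iff_locally_isStandardSmooth] at h
    obtain ⟨s, hs, hst⟩ := h
    obtain ⟨t, ht, htx⟩ : ∃ t ∈ s, t ∉ (hU.primeIdealOf ⟨x, hxU⟩).asIdeal := by
      by_contra! hc
      exact (hU.primeIdealOf ⟨x, hxU⟩).isPrime.ne_top (top_le_iff.1 (hs ▸ Ideal.span_le.2 hc))
    have hxt : x ∈ X.basicOpen t := by
      show (⟨x, hxU⟩ : U).1 ∈ X.basicOpen t
      rw [← hU.fromSpec_primeIdealOf ⟨x, hxU⟩]
      show hU.primeIdealOf ⟨x, hxU⟩ ∈ hU.fromSpec ⁻¹ᵁ X.basicOpen t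
      rw [hU.fromSpec_preimage_basicOpen]
      exact htx
    have e' : X.basicOpen t ≤ f ⁻¹ᵁ V := (X.basicOpen_le t).trans e
    refine ⟨X.basicOpen t, hU.basicOpen t, hxt, e', ?_⟩
    haveI := hU.isLocalization_basicOpen t
    letI : Algebra Γ(S, V) Γ(X, U) := (f.appLE V U e).hom.toAlgebra
    let E := IsLocalization.algEquiv (Submonoid.powers t) (Localization.Away t) Γ(X, X.basicOpen t)
    have hcomp : (f.appLE V (X.basicOpen t) e').hom =
        E.toRingEquiv.toRingHom.comp ((algebraMap Γ(X, U) (Localization.Away t)).comp (f.appLE V U e).hom) := by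
      rw [← f.appLE_map e (homOfLE (X.basicOpen_le t)).op, CommRingCat.hom_comp, ← RingHom.comp_assoc]
      congr 1
      exact RingHom.ext fun a => (E.commutes a).symm
    rw [hcomp]
    exact RingHom.isStandardSmooth_respectsIso.1 _ E.toRingEquiv (hst t ht)
  · rintro ⟨U, hU, hxU, e, h⟩
    refine ⟨U, hxU, (ι_comp_iff f hV @Smooth hP hU e).2 ?_⟩
    rw [HasRingHomProperty.Spec_iff (P := @Smooth)]
    exact h.smooth

theorem etale_nhd_iff {x : X} (hxV : f x ∈ V) :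
    (∃ W : X.Opens, x ∈ W ∧ Etale (W.ι ≫ f)) ↔
      ∃ (U : X.Opens) (_ : IsAffineOpen U) (_ : x ∈ U) (e : U ≤ f ⁻¹ᵁ V),
        letI := (f.appLE V U e).hom.toAlgebra
        Algebra.IsStandardEtale Γ(S, V) Γ(X, U) := by
  have hP : ∀ {A B : Scheme.{u}} (i : A ⟶ B) [IsOpenImmersion i], Etale i := fun i _ => inferInstance
  constructor
  · rintro ⟨W, hxW, hW⟩
    obtain ⟨U, hU, hxU, e, h⟩ := exists_affine_nhd f hV @Etale hP hxV hxW hW
    rw [HasRingHomProperty.Spec_iff (P := @Etale)] at h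
    letI : Algebra Γ(S, V) Γ(X, U) := (f.appLE V U e).hom.toAlgebra
    haveI : Algebra.Etale Γ(S, V) Γ(X, U) := h
    haveI := (hU.primeIdealOf ⟨x, hxU⟩).isPrime
    obtain ⟨t, htx, hst⟩ := Algebra.IsEtaleAt.exists_isStandardEtale (R := Γ(S, V)) (hU.primeIdealOf ⟨x, hxU⟩).asIdeal
    have hxt : x ∈ X.basicOpen t := by
      show (⟨x, hxU⟩ : U).1 ∈ X.basicOpen t
      rw [← hU.fromSpec_primeIdealOf ⟨x, hxU⟩]
      show hU.primeIdealOf ⟨x, hxU⟩ ∈ hU.fromSpec ⁻¹ᵁ X.basicOpen t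
      rw [hU.fromSpec_preimage_basicOpen]
      exact htx
    have e' : X.basicOpen t ≤ f ⁻¹ᵁ V := (X.basicOpen_le t).trans e
    refine ⟨X.basicOpen t, hU.basicOpen t, hxt, e', ?_⟩
    haveI := hU.isLocalization_basicOpen t
    letI : Algebra Γ(S, V) Γ(X, X.basicOpen t) := (f.appLE V (X.basicOpen t) e').hom.toAlgebra
    haveI : IsScalarTower Γ(S, V) Γ(X, U) Γ(X, X.basicOpen t) := .of_algebraMap_eq fun a => by
      show (f.appLE V (X.basicOpen t) e').hom a = _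
      rw [← f.appLE_map e (homOfLE (X.basicOpen_le t)).op]
      rfl
    exact Algebra.IsStandardEtale.of_equiv
      ((IsLocalization.algEquiv (Submonoid.powers t) (Localization.Away t) Γ(X, X.basicOpen t)).restrictScalars Γ(S, V))
  · rintro ⟨U, hU, hxU, e, h⟩
    refine ⟨U, hxU, (ι_comp_iff f hV @Etale hP hU e).2 ?_⟩
    rw [HasRingHomProperty.Spec_iff (P := @Etale)]
    letI : Algebra Γ(S, V) Γ(X, U) := (f.appLE V U e).hom.toAlgebra
    haveI := h
    exact RingHom.etale_algebraMap.2 (inferInstance : Algebra.Etale Γ(S, V) Γ(X, U))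

end Groth.Agent.Lib.H75.NhdApp.Basic
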